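import Mathlib.GroupTheory.Sylow
import Mathlib.Tactic.Group

/-!
The centre of a Sylow subgroup of the centraliser of an involution of the core.
-/

set_option autoImplicit false

namespace H55.S3232

variable {G : Type*} [Group G]

/-- The facts about the core `J` with centre `Z` that the argument needs. -/
structure CoreZ (z : G) (Z J : Subgroup G) : Prop where
  le_cent : ∀ j ∈ J, Commute j z
  Z_le : Z ≤ J
  z_mem : z ∈ Z
  z_ne_one : z ≠ 1
  sq_Z : ∀ u ∈ Z, u * u = 1
  comm : ∀ a ∈ J, ∀ b ∈ J, Commute a b ∨ a * b = b * a * z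
  sq_cases : ∀ a ∈ J, a * a = 1 ∨ a * a = z
  cent_Z : ∀ u ∈ Z, ∀ j ∈ J, Commute u j
  center : ∀ u ∈ J, (∀ j ∈ J, Commute u j) → u ∈ Z
  conj_mem : ∀ g, Commute g z → ∀ j ∈ J, g * j * g⁻¹ ∈ J
  maximal : ∀ g, Commute g z → (∀ j ∈ J, j⁻¹ * (g * j * g⁻¹) ∈ Z) → g ∈ J

namespace CoreZ

variable {z : G} {Z J : Subgroup G}

/-- An element of the core centralising a hyperplane lies in the centre or in its translate. -/
theorem mem_of_cent_hyperplane (c : CoreZ z Z J) {x d : G} (hx : x ∈ J) (hxZ : x ∉ Z)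
    (hd : d ∈ J) (h : ∀ e ∈ J, Commute e x → Commute d e) : d ∈ Z ∨ d * x ∈ Z := by
  obtain ⟨j₀, hj₀, hn⟩ : ∃ j ∈ J, ¬ Commute x j := by
    by_contra hno
    push Not at hno
    exact hxZ (c.center x hx hno)
  have hxj : x * j₀ = j₀ * x * z := (c.comm x hx j₀ hj₀).resolve_left hn
  have hzz : z * z = 1 := c.sq_Z z c.z_mem
  -- every element of the core outside the hyperplane is `j₀` times one of it
  have hsplit : ∀ j ∈ J, ¬ Commute j x → Commute (j₀⁻¹ * j) x := by
    intro j hj hjx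
    have h1 : x * j = j * x * z := (c.comm x hx j hj).resolve_left fun e => hjx e.symm
    have e1 : j⁻¹ * x * j = x * z := by
      rw [mul_assoc, h1]; group
    have e2 : j₀⁻¹ * x * j₀ = x * z := by
      rw [mul_assoc, hxj]; group
    have e3 : j₀ * (x * z) * j₀⁻¹ = x := by rw [← e2]; group
    refine inv_mul_eq_iff_eq_mul.1 ?_ |>.symm
    calc (j₀⁻¹ * j)⁻¹ * (x * (j₀⁻¹ * j)) = j⁻¹ * (j₀ * x * j₀⁻¹) * j := by group
      _ = j⁻¹ * (x * z⁻¹) * j := by
        rw [show x * z⁻¹ = j₀ * x * j₀⁻¹ * (j₀ * z * j₀⁻¹) * z⁻¹ by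
          conv_lhs => rw [← e3]
          group, (c.le_cent j₀ hj₀).eq]
        group
      _ = j⁻¹ * x * j * z⁻¹ := by
        rw [show j⁻¹ * (x * z⁻¹) * j = j⁻¹ * x * j * (j⁻¹ * z⁻¹ * j) by group,
          show j⁻¹ * z⁻¹ * j = z⁻¹ by rw [mul_assoc, ← ((c.le_cent j hj).inv_right).eq]; group]
      _ = x := by rw [e1]; group
  by_cases hdj : Commute d j₀
  · refine Or.inl (c.center d hd fun j hj => ?_)
    by_cases hjx : Commute j x
    · exact h j hj hjx
    · have := hdj.mul_right (h _ (J.mul_mem (J.inv_mem hj₀) hj) (hsplit j hj hjx))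
      rwa [mul_inv_cancel_left] at this
  · have hdj0 : d * j₀ = j₀ * d * z := (c.comm d hd j₀ hj₀).resolve_left hdj
    refine Or.inr (c.center _ (J.mul_mem hd hx) fun j hj => ?_)
    have hdx : Commute (d * x) j₀ := by
      show d * x * j₀ = j₀ * (d * x)
      calc d * x * j₀ = d * (j₀ * x * z) := by rw [mul_assoc, hxj]
        _ = d * j₀ * x * z := by group
        _ = j₀ * d * z * x * z := by rw [hdj0]
        _ = j₀ * d * (z * x) * z := by group
        _ = j₀ * d * (x * z) * z := by rw [(c.le_cent x hx).eq]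
        _ = j₀ * (d * x) * (z * z) := by group
        _ = j₀ * (d * x) := by rw [hzz, mul_one]
    have hce : ∀ e ∈ J, Commute e x → Commute (d * x) e := fun e he hex =>
      (h e he hex).mul_left hex.symm
    by_cases hjx : Commute j x
    · exact hce j hj hjx
    · have := hdx.mul_right (hce _ (J.mul_mem (J.inv_mem hj₀) hj) (hsplit j hj hjx))
      rwa [mul_inv_cancel_left] at this

/-- An element commuting with the centraliser in the core of an involution `x` of the core lies in
the centre of the core or in its translate by `x`. -/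
theorem mem_of_commute (c : CoreZ z Z J) {x g : G} (hx : x ∈ J) (hxZ : x ∉ Z) (hxx : x * x = 1)
    (h : ∀ e ∈ J, Commute e x → Commute g e) : g ∈ Z ∨ g * x ∈ Z := by
  have hzx : Commute z x := (c.le_cent x hx).symm
  have hgz : Commute g z := h z (c.Z_le c.z_mem) hzx
  have hgx : Commute g x := h x hx (Commute.refl x)
  refine c.mem_of_cent_hyperplane hx hxZ (c.maximal g hgz fun j hj => ?_) h
  set d := j⁻¹ * (g * j * g⁻¹) with hdd
  have hdJ : d ∈ J := J.mul_mem (J.inv_mem hj) (c.conj_mem g hgz j hj)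
  have hcd : ∀ e ∈ J, Commute e x → Commute d e := by
    intro e he hex
    have hge : g * e * g⁻¹ = e := mul_inv_eq_iff_eq_mul.2 (h e he hex).eq
    rcases c.comm j hj e he with hje | hje
    · have h1 : Commute (g * j * g⁻¹) e := by
        show g * j * g⁻¹ * e = e * (g * j * g⁻¹)
        conv_lhs => rw [← hge]
        conv_rhs => rw [← hge]
        calc g * j * g⁻¹ * (g * e * g⁻¹) = g * (j * e) * g⁻¹ := by group
          _ = g * (e * j) * g⁻¹ := by rw [hje.eq]
          _ = g * e * g⁻¹ * (g * j * g⁻¹) := by group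
      exact hje.inv_left.mul_left h1
    · have h1 : g * j * g⁻¹ * e = e * (g * j * g⁻¹) * z := by
        conv_lhs => rw [← hge]
        conv_rhs => rw [← hge]
        calc g * j * g⁻¹ * (g * e * g⁻¹) = g * (j * e) * g⁻¹ := by group
          _ = g * (e * j * z) * g⁻¹ := by rw [hje]
          _ = g * e * g⁻¹ * (g * j * g⁻¹) * (g * z * g⁻¹) := by group
          _ = g * e * g⁻¹ * (g * j * g⁻¹) * z := by rw [mul_inv_eq_iff_eq_mul.2 hgz.eq]
      have h2 : j⁻¹ * e * j = e * z⁻¹ := by
        have : e * j = j * e * z⁻¹ := by rw [hje]; group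
        rw [mul_assoc, this]; group
      show d * e = e * d
      calc d * e = j⁻¹ * (g * j * g⁻¹ * e) := by rw [hdd]; group
        _ = j⁻¹ * e * j * (j⁻¹ * (g * j * g⁻¹) * z) := by rw [h1]; group
        _ = e * z⁻¹ * (d * z) := by rw [h2, hdd]
        _ = e * z⁻¹ * (z * d) := by rw [(c.le_cent d hdJ).eq]
        _ = e * d := by group
  refine (c.mem_of_cent_hyperplane hx hxZ hdJ hcd).resolve_right fun hu => ?_
  -- the translate is impossible: squares are preserved
  have hjx : ¬ Commute j x := fun hjx => hxZ <| by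
    have hd1 : d = 1 := by
      rw [hdd, mul_inv_eq_iff_eq_mul.2 (h j hj hjx).eq, inv_mul_cancel]
    rwa [hd1, one_mul] at hu
  set u := d * x with hud
  have hdu : d = u * x := by rw [hud, mul_assoc, hxx, mul_one]
  have hux : Commute u x := c.cent_Z u hu x hx
  have huj : Commute u j := c.cent_Z u hu j hj
  have hsq : (g * j * g⁻¹) * (g * j * g⁻¹) = j * j := by
    rw [show g * j * g⁻¹ * (g * j * g⁻¹) = g * (j * j) * g⁻¹ by group]
    rcases c.sq_cases j hj with e | e <;> rw [e]
    · group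
    · exact mul_inv_eq_iff_eq_mul.2 hgz.eq
  have hxj : x * j = j * x * z :=
    (c.comm x hx j hj).resolve_left fun e => hjx e.symm
  have hgj : g * j * g⁻¹ = j * (u * x) := by rw [← hdu, hdd]; group
  rw [hgj] at hsq
  refine c.z_ne_one ?_
  calc z = x * x * z * (u * u) := by rw [hxx, c.sq_Z u hu, one_mul, mul_one]
    _ = j⁻¹ * j⁻¹ * ((j * (u * x)) * (j * (u * x))) := by
      calc x * x * z * (u * u) = x * (x * z) * (u * u) := by group
        _ = x * (z * x) * (u * u) := by rw [(c.le_cent x hx).eq]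
        _ = (j⁻¹ * (x * j)) * x * (u * u) * (x⁻¹ * z⁻¹ * x * z) := by
          rw [hxj, show x⁻¹ * z⁻¹ * x * z = 1 by
            rw [mul_assoc _ x z, (c.le_cent x hx).eq]; group]
          rw [show x * (z * x) = x * z * x by group,
            show j⁻¹ * (j * x * z) = x * z by group, mul_one]
        _ = j⁻¹ * (x * j) * (x * (u * u)) := by
          rw [show x⁻¹ * z⁻¹ * x * z = 1 by
            rw [mul_assoc _ x z, (c.le_cent x hx).eq]; group]
          group
        _ = j⁻¹ * (x * j) * (u * x * u) := by rw [hux.eq, mul_assoc x u u]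
        _ = j⁻¹ * (x * j) * u * (x * u) := by group
        _ = j⁻¹ * (x * (j * u)) * (u * x) := by rw [← hux.eq]; group
        _ = j⁻¹ * j⁻¹ * (j * (x * u * j) * (u * x)) := by rw [← huj.eq]; group
        _ = j⁻¹ * j⁻¹ * ((j * (u * x)) * (j * (u * x))) := by rw [hux.eq]; group
    _ = 1 := by rw [hsq]; group

end CoreZ

/-- Sylow-centre transfer: if `x` is conjugate to `u`, and `S` is a Sylow 2-subgroup of the centraliser
of `u`, every 2-subgroup `R` centralising `x` is moved into `S` by an element taking `x` to `u`. -/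
theorem exists_conj_into [Finite G] {x u k : G} (hk : k * u * k⁻¹ = x)
    (S : Sylow 2 ↥(Subgroup.centralizer ({u} : Set G))) {R : Subgroup G} (hR : IsPGroup 2 R)
    (hRx : ∀ r ∈ R, Commute r x) :
    ∃ k' : G, k' * u * k'⁻¹ = x ∧ ∀ r ∈ R,
      k'⁻¹ * r * k' ∈ (S : Subgroup ↥(Subgroup.centralizer ({u} : Set G))).map
        (Subgroup.centralizer ({u} : Set G)).subtype := by
  haveI : Fact (Nat.Prime 2) := ⟨Nat.prime_two⟩
  have hmem : ∀ r ∈ R, k⁻¹ * r * k ∈ Subgroup.centralizer ({u} : Set G) := fun r hr => by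
    refine Subgroup.mem_centralizer_singleton_iff.2 ?_
    calc k⁻¹ * r * k * u = k⁻¹ * (r * (k * u * k⁻¹)) * k := by group
      _ = k⁻¹ * ((k * u * k⁻¹) * r) * k := by rw [hk, (hRx r hr).eq]
      _ = u * (k⁻¹ * r * k) := by group
  let f : R →* ↥(Subgroup.centralizer ({u} : Set G)) :=
    { toFun := fun r => ⟨k⁻¹ * r * k, hmem r r.2⟩
      map_one' := Subtype.ext (by simp)
      map_mul' := fun a b => Subtype.ext (by simp [mul_assoc]) }
  obtain ⟨P, hP⟩ := (hR.of_surjective f.rangeRestrict f.rangeRestrict_surjective).exists_le_sylow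
  obtain ⟨c, hc⟩ := MulAction.exists_smul_eq ↥(Subgroup.centralizer ({u} : Set G)) P S
  refine ⟨k * (c : G)⁻¹, ?_, fun r hr => ⟨c * f ⟨r, hr⟩ * c⁻¹, ?_, ?_⟩⟩
  · have := Subgroup.mem_centralizer_singleton_iff.1 c.2
    calc k * (c : G)⁻¹ * u * (k * (c : G)⁻¹)⁻¹ = k * ((c : G)⁻¹ * (u * c)) * k⁻¹ := by group
      _ = k * ((c : G)⁻¹ * (c * u)) * k⁻¹ := by rw [this]
      _ = x := by rw [← hk]; group
  · rw [← hc]
    exact ⟨f ⟨r, hr⟩, hP ⟨_, rfl⟩, rfl⟩
  · simp [f, mul_assoc]

namespace CoreZ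

variable {z : G} {Z J : Subgroup G}

/-- Let `x` be an involution of the core outside its centre, conjugate to `u`, let `S` be a Sylow
2-subgroup of the centraliser of `u`, and `v` an element centralising `S`. Then some element taking
`u` to `x` takes `v` or `u * v` into the centre of the core. -/
theorem exists_centre_pair [Finite G] (c : CoreZ z Z J) (hJ : IsPGroup 2 J) {x u v k : G}
    (hx : x ∈ J) (hxZ : x ∉ Z) (hxx : x * x = 1) (hk : k * u * k⁻¹ = x)
    (S : Sylow 2 ↥(Subgroup.centralizer ({u} : Set G)))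
    (hv : ∀ s ∈ (S : Subgroup ↥(Subgroup.centralizer ({u} : Set G))), Commute v (s : G)) :
    ∃ k' : G, k' * u * k'⁻¹ = x ∧ (k' * v * k'⁻¹ ∈ Z ∨ k' * (u * v) * k'⁻¹ ∈ Z) := by
  obtain ⟨k', hk', hR⟩ := exists_conj_into hk S (R := J ⊓ Subgroup.centralizer ({x} : Set G))
    (hJ.to_le inf_le_left) (fun r hr => Subgroup.mem_centralizer_singleton_iff.1 hr.2)
  refine ⟨k', hk', ?_⟩
  have hc : ∀ e ∈ J, Commute e x → Commute (k' * v * k'⁻¹) e := by
    intro e he hex
    obtain ⟨s, hs, hse⟩ := hR e ⟨he, Subgroup.mem_centralizer_singleton_iff.2 hex.eq⟩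
    have h1 : Commute v (k'⁻¹ * e * k') := by
      rw [← hse]
      exact hv s hs
    show k' * v * k'⁻¹ * e = e * (k' * v * k'⁻¹)
    calc k' * v * k'⁻¹ * e = k' * (v * (k'⁻¹ * e * k')) * k'⁻¹ := by group
      _ = k' * ((k'⁻¹ * e * k') * v) * k'⁻¹ := by rw [h1.eq]
      _ = e * (k' * v * k'⁻¹) := by group
  refine (c.mem_of_commute hx hxZ hxx hc).imp id fun h => ?_
  have hcx : Commute (k' * v * k'⁻¹) x := hc x hx (Commute.refl x)
  rw [show k' * (u * v) * k'⁻¹ = (k' * u * k'⁻¹) * (k' * v * k'⁻¹) by group, hk', ← hcx.eq]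
  exact h

end CoreZ

end H55.S3232
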